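import Cfsg.Agent.SylvesterSchur.PrimeGaps

/-!
# The theorem of Sylvester and Schur

For `2 k ≤ m` and `k ≠ 0` some prime greater than `k` divides `m.choose k` (Erdős's proof).
-/

set_option autoImplicit false

namespace CfsgLib.SylvesterSchur

open Finset

local notation "π" => Nat.primeCounting

section Counting

theorem primeCounting'_420 : Nat.primeCounting' 420 = 81 := by decide +kernel

theorem primeCounting'_120 : Nat.primeCounting' 120 = 30 := by decide +kernel

theorem count_le_210 {k : ℕ} (h : 420 ≤ k + 1) : π k ≤ 81 + 48 * ((k + 1 - 420) / 210 + 1) := by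
  have h1 := Nat.primeCounting'_add_le (a := 210) (k := 420) (by norm_num) (by norm_num) (k + 1 - 420)
  rw [Nat.add_sub_cancel' h, primeCounting'_420,
    show Nat.totient 210 = 48 by decide +kernel] at h1
  exact h1

theorem count_le_30 {k : ℕ} (h : 120 ≤ k + 1) : π k ≤ 30 + 8 * ((k + 1 - 120) / 30 + 1) := by
  have h1 := Nat.primeCounting'_add_le (a := 30) (k := 120) (by norm_num) (by norm_num) (k + 1 - 120)
  rw [Nat.add_sub_cancel' h, primeCounting'_120,
    show Nat.totient 30 = 8 by decide +kernel] at h1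
  exact h1

theorem two_mul_count_le {k : ℕ} (h : 8 ≤ k) : 2 * π k ≤ k := by
  rcases lt_or_ge k 120 with hk | hk
  · have : ∀ j < 120, 8 ≤ j → 2 * π j ≤ j := by decide +kernel
    exact this k hk h
  · have := count_le_30 (show 120 ≤ k + 1 by omega)
    omega

theorem three_mul_count_le {k : ℕ} (h : 33 ≤ k) : 3 * π k ≤ k := by
  rcases lt_or_ge k 120 with hk | hk
  · have : ∀ j < 120, 33 ≤ j → 3 * π j ≤ j := by decide +kernel
    exact this k hk h
  · have := count_le_30 (show 120 ≤ k + 1 by omega)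
    omega

theorem seven_mul_count_le {k : ℕ} (h : 578 ≤ k) : 7 * π k ≤ 2 * k := by
  have := count_le_210 (show 420 ≤ k + 1 by omega)
  omega

theorem four_mul_count_le {k : ℕ} (h : 2048 ≤ k) : 4 * π k ≤ k := by
  have := count_le_210 (show 420 ≤ k + 1 by omega)
  omega

theorem fifteen_mul_count_le {s : ℕ} (h : 64 ≤ s) : 15 * (π s + 1) ≤ 4 * s + 109 := by
  rcases lt_or_ge s 119 with hs | hs
  · have : ∀ j < 119, 64 ≤ j → 15 * (π j + 1) ≤ 4 * j + 109 := by decide +kernel
    exact this s hs h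
  · have := count_le_30 (show 120 ≤ s + 1 by omega)
    omega

theorem count_le_24 {s : ℕ} (h : s ≤ 90) : π s ≤ 24 :=
  (Nat.monotone_primeCounting h).trans (by decide +kernel)

end Counting

section Bounds

variable {m k : ℕ}

/-- A prime greater than `k` dividing one of the top `k` factors divides `m.choose k`. -/
theorem dvd_choose_of_dvd_term {p i : ℕ} (hp : p.Prime) (hpk : k < p) (hi : i < k) (hik : k ≤ m)
    (h : p ∣ m - i) : p ∣ m.choose k := by
  have h1 : p ∣ m.descFactorial k := by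
    rw [Nat.descFactorial_eq_prod_range]
    exact h.trans (Finset.dvd_prod_of_mem _ (Finset.mem_range.2 hi))
  rw [Nat.descFactorial_eq_factorial_mul_choose] at h1
  exact (hp.dvd_mul.1 h1).resolve_left fun h2 => absurd (hp.dvd_factorial.1 h2) (not_le.2 hpk)

theorem exists_of_gap {g : ℕ} (hkm : 2 * k ≤ m) (hg : g ≤ k)
    (h : ∃ p, p.Prime ∧ p ≤ m ∧ m < p + g) : ∃ p, p.Prime ∧ k < p ∧ p ∣ m.choose k := by
  obtain ⟨p, hp, h1, h2⟩ := h
  exact ⟨p, hp, by omega, hp.dvd_choose (by omega) (by omega) h1⟩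

/-- The ratio of two binomial coefficients. -/
theorem choose_mul_pow_le {n : ℕ} (hnm : n ≤ m) (k : ℕ) :
    m ^ k * n.choose k ≤ n ^ k * m.choose k := by
  have key : ∀ i, m ^ i * n.descFactorial i ≤ n ^ i * m.descFactorial i := by
    intro i
    induction i with
    | zero => simp
    | succ i ih =>
      rw [Nat.descFactorial_succ, Nat.descFactorial_succ, pow_succ, pow_succ]
      have h : m * (n - i) ≤ n * (m - i) := by
        rw [Nat.mul_sub, Nat.mul_sub, mul_comm n m]
        exact Nat.sub_le_sub_left (Nat.mul_le_mul_right i hnm) _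
      calc m ^ i * m * ((n - i) * n.descFactorial i)
          = (m ^ i * n.descFactorial i) * (m * (n - i)) := by ring
        _ ≤ (n ^ i * m.descFactorial i) * (n * (m - i)) := Nat.mul_le_mul ih h
        _ = _ := by ring
  have h := key k
  rw [Nat.descFactorial_eq_factorial_mul_choose, Nat.descFactorial_eq_factorial_mul_choose,
    mul_left_comm, mul_left_comm (n ^ k)] at h
  exact Nat.le_of_mul_le_mul_left h k.factorial_pos

theorem pow_le_pow_mul_choose (hkm : k ≤ m) : m ^ k ≤ k ^ k * m.choose k := by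
  simpa using choose_mul_pow_le hkm k

variable (hkm : 2 * k ≤ m) (hall : ∀ p, p.Prime → p ∣ m.choose k → p ≤ k)
include hkm hall

theorem choose_le_pow_count (hk : 0 < k) : m.choose k ≤ m ^ π k := by
  have hC : m.choose k ≠ 0 := (Nat.choose_pos (by omega)).ne'
  calc m.choose k = ∏ p ∈ (m.choose k).primeFactors, p ^ (m.choose k).factorization p :=
        (Nat.prod_factorization_pow_eq_self hC).symm
    _ ≤ ∏ p ∈ (m.choose k).primeFactors, m :=
        Finset.prod_le_prod' fun p _ => Nat.pow_factorization_choose_le (by omega)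
    _ = m ^ (m.choose k).primeFactors.card := Finset.prod_const m
    _ ≤ m ^ π k := by
        refine Nat.pow_le_pow_right (by omega) ?_
        rw [Nat.primeCounting, Nat.primeCounting', Nat.count_eq_card_filter_range]
        refine Finset.card_le_card fun p hp => ?_
        rw [Nat.mem_primeFactors] at hp
        exact Finset.mem_filter.2 ⟨Finset.mem_range.2 (Nat.lt_succ_of_le (hall p hp.1 hp.2.1)), hp.1⟩

/-- If `k ^ k` is too small, some prime greater than `k` divides. -/
theorem pow_le_of_all (hk : 0 < k) : m ^ k ≤ k ^ k * m ^ π k :=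
  (pow_le_pow_mul_choose (by omega)).trans
    (Nat.mul_le_mul_left _ (choose_le_pow_count hkm hall hk))

theorem bound_two (h : 8 ≤ k) : m ≤ k ^ 2 := by
  have h1 := Nat.pow_le_pow_left (pow_le_of_all hkm hall (by omega)) 2
  have h2 := two_mul_count_le h
  rw [mul_pow, ← pow_mul, ← pow_mul, ← pow_mul, mul_comm (π k) 2] at h1
  have h3 : m ^ (k * 2) ≤ k ^ (k * 2) * m ^ k :=
    h1.trans (Nat.mul_le_mul_left _ (Nat.pow_le_pow_right (by omega) h2))
  rw [mul_two, pow_add, ← mul_two, mul_comm k 2, pow_mul] at h3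
  exact (Nat.pow_le_pow_iff_left (show k ≠ 0 by omega)).1
    (Nat.le_of_mul_le_mul_right h3 (pow_pos (by omega) k))

theorem bound_three (h : 33 ≤ k) : m ^ 2 ≤ k ^ 3 := by
  have h1 := Nat.pow_le_pow_left (pow_le_of_all hkm hall (by omega)) 3
  have h2 := three_mul_count_le h
  rw [mul_pow, ← pow_mul, ← pow_mul, ← pow_mul, mul_comm (π k) 3] at h1
  have h3 : m ^ (k * 3) ≤ k ^ (k * 3) * m ^ k :=
    h1.trans (Nat.mul_le_mul_left _ (Nat.pow_le_pow_right (by omega) h2))
  rw [show m ^ (k * 3) = (m ^ 2) ^ k * m ^ k by rw [← pow_mul, ← pow_add]; ring_nf,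
    mul_comm k 3, pow_mul] at h3
  exact (Nat.pow_le_pow_iff_left (show k ≠ 0 by omega)).1
    (Nat.le_of_mul_le_mul_right h3 (pow_pos (by omega) k))

theorem bound_seven (h : 578 ≤ k) : m ^ 5 ≤ k ^ 7 := by
  have h1 := Nat.pow_le_pow_left (pow_le_of_all hkm hall (by omega)) 7
  have h2 := seven_mul_count_le h
  rw [mul_pow, ← pow_mul, ← pow_mul, ← pow_mul, mul_comm (π k) 7] at h1
  have h3 : m ^ (k * 7) ≤ k ^ (k * 7) * m ^ (2 * k) :=
    h1.trans (Nat.mul_le_mul_left _ (Nat.pow_le_pow_right (by omega) h2))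
  rw [show m ^ (k * 7) = (m ^ 5) ^ k * m ^ (2 * k) by rw [← pow_mul, ← pow_add]; ring_nf,
    mul_comm k 7, pow_mul k 7] at h3
  exact (Nat.pow_le_pow_iff_left (show k ≠ 0 by omega)).1
    (Nat.le_of_mul_le_mul_right h3 (pow_pos (show 0 < m by omega) _))

theorem bound_four (h : 2048 ≤ k) : m ^ 3 ≤ k ^ 4 := by
  have h1 := Nat.pow_le_pow_left (pow_le_of_all hkm hall (by omega)) 4
  have h2 := four_mul_count_le h
  rw [mul_pow, ← pow_mul, ← pow_mul, ← pow_mul, mul_comm (π k) 4] at h1
  have h3 : m ^ (k * 4) ≤ k ^ (k * 4) * m ^ k :=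
    h1.trans (Nat.mul_le_mul_left _ (Nat.pow_le_pow_right (by omega) h2))
  rw [show m ^ (k * 4) = (m ^ 3) ^ k * m ^ k by rw [← pow_mul, ← pow_add]; ring_nf,
    mul_comm k 4, pow_mul] at h3
  exact (Nat.pow_le_pow_iff_left (show k ≠ 0 by omega)).1
    (Nat.le_of_mul_le_mul_right h3 (pow_pos (by omega) k))

/-- Small primes contribute at most `m` each, the others once and only up to `k` and `m / 3`. -/
theorem choose_le_split (hk : 0 < k) : m.choose k ≤ m ^ π m.sqrt * 4 ^ min k (m / 3) := by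
  classical
  set C := m.choose k with hCdef
  have hC : C ≠ 0 := (Nat.choose_pos (by omega)).ne'
  set s := m.sqrt with hs
  rw [← Nat.prod_factorization_pow_eq_self hC, Finsupp.prod, Nat.support_factorization,
    ← Finset.prod_filter_mul_prod_filter_not _ (· ≤ s)]
  refine Nat.mul_le_mul ?_ ?_
  · refine (Finset.prod_le_prod' (g := fun _ => m) fun p _ =>
      Nat.pow_factorization_choose_le (by omega)).trans ?_
    rw [Finset.prod_const]
    refine Nat.pow_le_pow_right (by omega) ?_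
    rw [Nat.primeCounting, Nat.primeCounting', Nat.count_eq_card_filter_range]
    refine Finset.card_le_card fun p hp => ?_
    rw [Finset.mem_filter, Nat.mem_primeFactors] at hp
    exact Finset.mem_filter.2 ⟨Finset.mem_range.2 (Nat.lt_succ_of_le hp.2), hp.1.1⟩
  · refine le_trans ?_ (primorial_le_four_pow _)
    refine (Finset.prod_le_prod' (g := fun p => p) fun p hp => ?_).trans ?_
    · rw [Finset.mem_filter, Nat.mem_primeFactors] at hp
      refine (Nat.pow_le_pow_right hp.1.1.pos (Nat.factorization_choose_le_one ?_)).trans (pow_one p).le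
      rw [pow_two]
      exact (Nat.lt_succ_sqrt m).trans_le (Nat.mul_le_mul (by omega) (by omega))
    · refine Finset.prod_le_prod_of_subset_of_one_le' (fun p hp => ?_) fun p hp _ =>
        (Finset.mem_filter.1 hp).2.pos
      rw [Finset.mem_filter, Nat.mem_primeFactors] at hp
      obtain ⟨⟨hpp, hpd, -⟩, hps⟩ := hp
      refine Finset.mem_filter.2 ⟨Finset.mem_range.2 (Nat.lt_succ_of_le (le_min (hall p hpp hpd) ?_)), hpp⟩
      by_contra h3
      rcases eq_or_ne p 2 with rfl | hp2
      · have h5 : s ≤ 1 := by omega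
        have h6 : m < (s + 1) * (s + 1) := Nat.lt_succ_sqrt m
        have h7 : (s + 1) * (s + 1) ≤ 2 * 2 := Nat.mul_le_mul (by omega) (by omega)
        have h4 : 2 ≤ k := hall 2 hpp hpd
        omega
      · have h0 := Nat.factorization_choose_of_lt_three_mul (n := m) (k := k) hp2 (hall p hpp hpd)
          (le_trans (hall p hpp hpd) (by omega)) (by omega)
        exact (hpp.factorization_pos_of_dvd hC hpd).ne' h0

end Bounds

section Logarithm

theorem forty_mul_le : ∀ n : ℕ, 40 * n ≤ 2 ^ n + 180 := by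
  intro n
  induction n with
  | zero => norm_num
  | succ n ih =>
    rcases lt_or_ge n 6 with h | h
    · interval_cases n <;> norm_num
    · have h6 : 2 ^ 6 ≤ 2 ^ n := Nat.pow_le_pow_right (by norm_num) h
      rw [pow_succ]
      omega

theorem sq_le_three_mul : ∀ n : ℕ, 8 ≤ n → (2 * n + 2) ^ 2 ≤ 3 * 2 ^ n := by
  intro n hn
  induction n, hn using Nat.le_induction with
  | base => norm_num
  | succ n hn ih =>
    rw [pow_succ 2 n]
    nlinarith [Nat.mul_le_mul hn hn]

theorem log_le_two_mul {m : ℕ} (hm : m ≠ 0) : Nat.log 2 m + 1 ≤ 2 * Nat.log 2 m.sqrt + 2 := by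
  set n := Nat.log 2 m.sqrt with hn
  have h1 : m.sqrt < 2 ^ (n + 1) := Nat.lt_pow_succ_log_self (by norm_num) _
  have h2 : m < 2 ^ (2 * n + 2) := by
    rw [show 2 * n + 2 = (n + 1) + (n + 1) by ring, pow_add]
    exact (Nat.lt_succ_sqrt m).trans_le (Nat.mul_le_mul h1 h1)
  have := Nat.log_lt_of_lt_pow hm h2
  omega

theorem log_le_linear {m : ℕ} (hm : m ≠ 0) : 20 * (Nat.log 2 m + 1) ≤ m.sqrt + 220 := by
  have h0 : m.sqrt ≠ 0 := (Nat.sqrt_pos.2 (Nat.pos_of_ne_zero hm)).ne'
  have h1 := Nat.pow_log_le_self 2 h0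
  have h2 := forty_mul_le (Nat.log 2 m.sqrt)
  have h3 := log_le_two_mul hm
  omega

theorem log_sq_le {m : ℕ} (hs : 101 ≤ m.sqrt) : (Nat.log 2 m + 1) ^ 2 ≤ 3 * m.sqrt := by
  set n := Nat.log 2 m.sqrt with hn
  have h0 : m.sqrt ≠ 0 := by omega
  have hm : m ≠ 0 := fun h => by rw [h, Nat.sqrt_zero] at hs; omega
  have h1 := Nat.pow_log_le_self 2 h0
  rw [← hn] at h1
  have h3 := log_le_two_mul hm
  rw [← hn] at h3
  refine (Nat.pow_le_pow_left h3 2).trans ?_
  rcases lt_or_ge n 8 with h | h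
  · rcases lt_or_ge n 7 with h' | h'
    · exact (Nat.pow_le_pow_left (show 2 * n + 2 ≤ 14 by omega) 2).trans (by omega)
    · have hn7 : n = 7 := by omega
      rw [hn7] at h1 ⊢
      norm_num at h1 ⊢
      omega
  · exact (sq_le_three_mul n h).trans (Nat.mul_le_mul_left 3 h1)

end Logarithm

theorem large_case {m k : ℕ} (hkm : 2 * k ≤ m) (hk : 2048 ≤ k)
    (hall : ∀ p, p.Prime → p ∣ m.choose k → p ≤ k) : False := by
  have h4 := bound_four hkm hall hk
  set s := m.sqrt with hs
  set L := Nat.log 2 m + 1 with hL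
  set X := L * (π s + 1) with hX
  set e := min k (m / 3) with he
  have hm0 : m ≠ 0 := by omega
  have hmL : m ≤ 2 ^ L := (Nat.lt_pow_succ_log_self (by norm_num) m).le
  have hss : s * s ≤ m := Nat.sqrt_le m
  have hs64 : 64 ≤ s := Nat.le_sqrt.2 (by omega)
  have hP := fifteen_mul_count_le hs64
  have hLs := log_le_linear hm0
  rw [← hs, ← hL] at hLs
  -- it suffices to show `2 ^ X * 4 ^ e * (2 k) ^ k ≤ 4 ^ k * m ^ k`
  suffices hgoal : 2 ^ X * 4 ^ e * (2 * k) ^ k ≤ 4 ^ k * m ^ k by
    have h1 : m ^ k * (2 * k).choose k ≤ (2 * k) ^ k * m.choose k := choose_mul_pow_le hkm k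
    have h2 := Nat.four_pow_lt_mul_centralBinom k (by omega)
    rw [Nat.centralBinom] at h2
    have h3 : m.choose k ≤ m ^ π s * 4 ^ e := choose_le_split hkm hall (by omega)
    have h5 : k * m ^ π s ≤ 2 ^ X := by
      calc k * m ^ π s ≤ m * m ^ π s := Nat.mul_le_mul_right _ (by omega)
        _ = m ^ (π s + 1) := by rw [pow_succ']
        _ ≤ (2 ^ L) ^ (π s + 1) := Nat.pow_le_pow_left hmL _
        _ = 2 ^ X := by rw [← pow_mul]
    have h6 : 4 ^ k * m ^ k < 4 ^ k * m ^ k := by
      calc 4 ^ k * m ^ k < k * (2 * k).choose k * m ^ k :=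
            Nat.mul_lt_mul_of_lt_of_le h2 le_rfl (pow_pos (by omega) k)
        _ = k * (m ^ k * (2 * k).choose k) := by ring
        _ ≤ k * ((2 * k) ^ k * (m ^ π s * 4 ^ e)) :=
            Nat.mul_le_mul_left _ (h1.trans (Nat.mul_le_mul_left _ h3))
        _ = (k * m ^ π s) * 4 ^ e * (2 * k) ^ k := by ring
        _ ≤ 2 ^ X * 4 ^ e * (2 * k) ^ k :=
            Nat.mul_le_mul_right _ (Nat.mul_le_mul_right _ h5)
        _ ≤ 4 ^ k * m ^ k := hgoal
    exact lt_irrefl _ h6
  have hX300 : 300 * X ≤ (s + 220) * (4 * s + 109) := by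
    calc 300 * X = (20 * L) * (15 * (π s + 1)) := by rw [hX]; ring
      _ ≤ _ := Nat.mul_le_mul hLs hP
  rcases lt_or_ge (2 * m) (5 * k) with hA | hA
  · -- `m < 5 k / 2`
    have hXk : 3 * X ≤ k := by nlinarith
    have hexp : 2 ^ X * 4 ^ e ≤ 4 ^ k := by
      have h6 : X + 2 * e ≤ 2 * k := by omega
      calc 2 ^ X * 4 ^ e = 2 ^ (X + 2 * e) := by
            rw [pow_add 2 X (2 * e), pow_mul 2 2 e]; norm_num
        _ ≤ 2 ^ (2 * k) := Nat.pow_le_pow_right (by norm_num) h6
        _ = 4 ^ k := by rw [pow_mul 2 2 k]; norm_num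
    exact Nat.mul_le_mul hexp (Nat.pow_le_pow_left hkm k)
  rcases lt_or_ge m (5 * k) with hB | hB
  · -- `5 k / 2 ≤ m < 5 k`
    have hXk : 28 * X ≤ 9 * k := by
      rcases lt_or_ge s 90 with hs90 | hs90
      · have hm8 : m < 2 ^ 13 := by
          have := Nat.lt_succ_sqrt m
          rw [← hs] at this
          calc m < (s + 1) * (s + 1) := this
            _ ≤ 90 * 90 := Nat.mul_le_mul (by omega) (by omega)
            _ ≤ 2 ^ 13 := by norm_num
        have hL13 : L ≤ 13 := by
          have := Nat.log_lt_of_lt_pow hm0 hm8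
          omega
        have : X ≤ 13 * (24 + 1) := Nat.mul_le_mul hL13 (Nat.succ_le_succ (count_le_24 (by omega)))
        omega
      · nlinarith
    have h45 : 2 ^ X * 4 ^ k ≤ 5 ^ k := by
      refine (Nat.pow_le_pow_iff_left (n := 28) (by norm_num)).1 ?_
      calc (2 ^ X * 4 ^ k) ^ 28 = 2 ^ (28 * X) * (4 ^ 28) ^ k := by
            rw [mul_pow, ← pow_mul, ← pow_mul, ← pow_mul, mul_comm X, mul_comm k]
        _ ≤ 2 ^ (9 * k) * (4 ^ 28) ^ k :=
            Nat.mul_le_mul_right _ (Nat.pow_le_pow_right (by norm_num) hXk)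
        _ = (2 ^ 9 * 4 ^ 28) ^ k := by rw [mul_pow (2 ^ 9), ← pow_mul 2 9]
        _ ≤ (5 ^ 28) ^ k := Nat.pow_le_pow_left (by norm_num) k
        _ = (5 ^ k) ^ 28 := by rw [← pow_mul, ← pow_mul, mul_comm]
    have h5 : 2 ^ X * (2 * k) ^ k ≤ m ^ k := by
      refine Nat.le_of_mul_le_mul_left (show 2 ^ k * (2 ^ X * (2 * k) ^ k) ≤ 2 ^ k * m ^ k from ?_)
        (pow_pos two_pos k)
      calc 2 ^ k * (2 ^ X * (2 * k) ^ k) = (2 ^ X * 4 ^ k) * k ^ k := by
            rw [show (4 : ℕ) = 2 * 2 from rfl, mul_pow 2 k, mul_pow 2 2]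
            ring
        _ ≤ 5 ^ k * k ^ k := Nat.mul_le_mul_right _ h45
        _ ≤ (2 * m) ^ k := by rw [← mul_pow]; exact Nat.pow_le_pow_left hA k
        _ = 2 ^ k * m ^ k := mul_pow 2 m k
    calc 2 ^ X * 4 ^ e * (2 * k) ^ k = 4 ^ e * (2 ^ X * (2 * k) ^ k) := by ring
      _ ≤ 4 ^ k * m ^ k :=
          Nat.mul_le_mul (Nat.pow_le_pow_right (by norm_num) (min_le_left _ _)) h5
  · -- `5 k ≤ m`
    have hs101 : 101 ≤ s := Nat.le_sqrt.2 (by omega)
    have hL2 : L ^ 2 ≤ 3 * s := log_sq_le hs101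
    have hP6 : 15 * (π s + 1) ≤ 6 * s := by omega
    have hs3 : s ^ 3 ≤ k ^ 2 := by
      refine (Nat.pow_le_pow_iff_left (n := 2) (by norm_num)).1 ?_
      calc (s ^ 3) ^ 2 = (s * s) ^ 3 := by ring
        _ ≤ m ^ 3 := Nat.pow_le_pow_left hss 3
        _ ≤ k ^ 4 := h4
        _ = (k ^ 2) ^ 2 := by ring
    have hXk : X ≤ k := by
      refine (Nat.pow_le_pow_iff_left (n := 2) (by norm_num)).1 ?_
      refine Nat.le_of_mul_le_mul_left (show 225 * X ^ 2 ≤ 225 * k ^ 2 from ?_) (by norm_num)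
      calc 225 * X ^ 2 = L ^ 2 * (15 * (π s + 1)) ^ 2 := by rw [hX]; ring
        _ ≤ (3 * s) * (6 * s) ^ 2 := Nat.mul_le_mul hL2 (Nat.pow_le_pow_left hP6 2)
        _ = 108 * s ^ 3 := by ring
        _ ≤ 225 * k ^ 2 := Nat.mul_le_mul (by norm_num) hs3
    have h5 : 2 ^ X * (2 * k) ^ k ≤ m ^ k := by
      calc 2 ^ X * (2 * k) ^ k ≤ 2 ^ k * (2 * k) ^ k :=
            Nat.mul_le_mul_right _ (Nat.pow_le_pow_right (by norm_num) hXk)
        _ = (2 * (2 * k)) ^ k := (mul_pow 2 (2 * k) k).symm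
        _ ≤ m ^ k := Nat.pow_le_pow_left (by omega) k
    calc 2 ^ X * 4 ^ e * (2 * k) ^ k = 4 ^ e * (2 ^ X * (2 * k) ^ k) := by ring
      _ ≤ 4 ^ k * m ^ k :=
          Nat.mul_le_mul (Nat.pow_le_pow_right (by norm_num) (min_le_left _ _)) h5

theorem small_table : ∀ k ∈ range 14, 2 ≤ k → ∀ m ∈ range 170, 2 * k ≤ m →
    ∃ p ∈ range (m + 1), k < p ∧ (∃ i ∈ range k, (m - i) % p = 0) ∧ p.Prime := by
  decide +kernel

/-- **Sylvester–Schur.** -/
theorem exists_prime_gt_dvd_choose {k m : ℕ} (hk : 0 < k) (hkm : 2 * k ≤ m) :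
    ∃ p, p.Prime ∧ k < p ∧ p ∣ m.choose k := by
  by_contra! hno
  have hall : ∀ p, p.Prime → p ∣ m.choose k → p ≤ k := fun p hp hd =>
    le_of_not_gt fun h => hno p hp h hd
  have hfin : ¬ ∃ p, p.Prime ∧ k < p ∧ p ∣ m.choose k := fun ⟨p, hp, h, hd⟩ => hno p hp h hd
  rcases eq_or_ne k 1 with rfl | hk1
  · obtain ⟨p, hp, hpd⟩ := Nat.exists_prime_and_dvd (show m ≠ 1 by omega)
    exact hno p hp hp.one_lt (by rwa [Nat.choose_one_right])
  rcases lt_or_ge k 14 with h14 | h14
  · have hm : m < 170 := by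
      by_contra hge
      rcases lt_or_ge k 8 with h8 | h8
      · have h1 := pow_le_of_all hkm hall hk
        have hπ : π k + 1 ≤ k ∧ k ^ k < 170 ^ (k - π k) := by
          have : ∀ j < 8, 2 ≤ j → π j + 1 ≤ j ∧ j ^ j < 170 ^ (j - π j) := by decide +kernel
          exact this k h8 (by omega)
        have h2 : k ^ k < m ^ (k - π k) := hπ.2.trans_le (Nat.pow_le_pow_left (by omega) _)
        have h3 : k ^ k * m ^ π k < m ^ (k - π k) * m ^ π k :=
          Nat.mul_lt_mul_of_lt_of_le h2 le_rfl (pow_pos (by omega) _)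
        rw [← pow_add, Nat.sub_add_cancel (by omega)] at h3
        omega
      · have := bound_two hkm hall h8
        have := Nat.pow_le_pow_left (show k ≤ 13 by omega) 2
        omega
    obtain ⟨p, -, hkp, ⟨i, hi, hd⟩, hp⟩ :=
      small_table k (mem_range.2 h14) (by omega) m (mem_range.2 hm) hkm
    exact hno p hp hkp (dvd_choose_of_dvd_term hp hkp (mem_range.1 hi) (by omega) (Nat.dvd_of_mod_eq_zero hd))
  rcases lt_or_ge k 33 with h33 | h33
  · have := bound_two hkm hall (by omega)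
    rcases lt_or_ge k 20 with h20 | h20
    · have := Nat.pow_le_pow_left (show k ≤ 19 by omega) 2
      exact hfin (exists_of_gap hkm h14 (PrimeGaps.gaps_14 (by omega) (by omega)))
    · have := Nat.pow_le_pow_left (show k ≤ 32 by omega) 2
      exact hfin (exists_of_gap hkm h20 (PrimeGaps.gaps_20 (by omega) (by omega)))
  rcases lt_or_ge k 2048 with hK | hK
  · rcases lt_or_ge k 578 with h578 | h578
    · have h2 := bound_three hkm hall h33
      rcases lt_or_ge k 72 with h72 | h72
      · have hm : m ≤ 1128 := by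
          by_contra hge
          have := Nat.pow_le_pow_left (show k ≤ 71 by omega) 3
          have := Nat.pow_le_pow_left (show 1129 ≤ m by omega) 2
          omega
        exact hfin (exists_of_gap hkm (by omega) (PrimeGaps.gaps_20 (by omega) hm))
      · have hm : m ≤ 44000 := by
          by_contra hge
          have := Nat.pow_le_pow_left (show k ≤ 577 by omega) 3
          have := Nat.pow_le_pow_left (show 44001 ≤ m by omega) 2
          omega
        exact hfin (exists_of_gap hkm h72 (PrimeGaps.gaps_72 (by omega) hm))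
    · have h5 := bound_seven hkm hall h578
      have hm : m ≤ 44000 := by
        by_contra hge
        have := Nat.pow_le_pow_left (show k ≤ 2047 by omega) 7
        have := Nat.pow_le_pow_left (show 44001 ≤ m by omega) 5
        omega
      exact hfin (exists_of_gap hkm (by omega) (PrimeGaps.gaps_72 (by omega) hm))
  exact large_case hkm hK hall

end CfsgLib.SylvesterSchur
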