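import Mathlib

/-!
# Short gaps between small primes

Every `m` below the stated bound has a prime `p ≤ m < p + g`.
-/

set_option autoImplicit false

namespace CfsgLib.PrimeGaps

/-- Every `m` in `[2, M)` has a prime `p ≤ m < p + g`. -/
def Covered (g M : ℕ) : Prop := ∀ m, 2 ≤ m → m < M → ∃ p, p.Prime ∧ p ≤ m ∧ m < p + g

theorem covered_two (g : ℕ) : Covered g 2 := fun m h1 h2 => absurd h2 (not_lt.2 h1)

theorem Covered.step {g M : ℕ} (h : Covered g M) (p : ℕ) (hp : p.Prime) (hpM : p ≤ M) :
    Covered g (p + g) := fun m h1 h2 =>
  (lt_or_ge m M).elim (h m h1) fun h3 => ⟨p, hp, hpM.trans h3, h2⟩

theorem covered_14_0 : Covered 14 411 := by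
  have h := (covered_two 14)
  replace h := h.step 2 (by norm_num) (by norm_num)
  replace h := h.step 13 (by norm_num) (by norm_num)
  replace h := h.step 23 (by norm_num) (by norm_num)
  replace h := h.step 37 (by norm_num) (by norm_num)
  replace h := h.step 47 (by norm_num) (by norm_num)
  replace h := h.step 61 (by norm_num) (by norm_num)
  replace h := h.step 73 (by norm_num) (by norm_num)
  replace h := h.step 83 (by norm_num) (by norm_num)
  replace h := h.step 97 (by norm_num) (by norm_num)
  replace h := h.step 109 (by norm_num) (by norm_num)
  replace h := h.step 113 (by norm_num) (by norm_num)
  replace h := h.step 127 (by norm_num) (by norm_num)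
  replace h := h.step 139 (by norm_num) (by norm_num)
  replace h := h.step 151 (by norm_num) (by norm_num)
  replace h := h.step 163 (by norm_num) (by norm_num)
  replace h := h.step 173 (by norm_num) (by norm_num)
  replace h := h.step 181 (by norm_num) (by norm_num)
  replace h := h.step 193 (by norm_num) (by norm_num)
  replace h := h.step 199 (by norm_num) (by norm_num)
  replace h := h.step 211 (by norm_num) (by norm_num)
  replace h := h.step 223 (by norm_num) (by norm_num)
  replace h := h.step 233 (by norm_num) (by norm_num)
  replace h := h.step 241 (by norm_num) (by norm_num)
  replace h := h.step 251 (by norm_num) (by norm_num)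
  replace h := h.step 263 (by norm_num) (by norm_num)
  replace h := h.step 277 (by norm_num) (by norm_num)
  replace h := h.step 283 (by norm_num) (by norm_num)
  replace h := h.step 293 (by norm_num) (by norm_num)
  replace h := h.step 307 (by norm_num) (by norm_num)
  replace h := h.step 317 (by norm_num) (by norm_num)
  replace h := h.step 331 (by norm_num) (by norm_num)
  replace h := h.step 337 (by norm_num) (by norm_num)
  replace h := h.step 349 (by norm_num) (by norm_num)
  replace h := h.step 359 (by norm_num) (by norm_num)
  replace h := h.step 373 (by norm_num) (by norm_num)
  replace h := h.step 383 (by norm_num) (by norm_num)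
  replace h := h.step 397 (by norm_num) (by norm_num)
  norm_num at h
  exact h

theorem gaps_14 {m : ℕ} (h1 : 2 ≤ m) (h2 : m ≤ 400) : ∃ p, p.Prime ∧ p ≤ m ∧ m < p + 14 :=
  covered_14_0 m h1 (lt_of_le_of_lt h2 (by norm_num))

theorem covered_20_0 : Covered 20 849 := by
  have h := (covered_two 20)
  replace h := h.step 2 (by norm_num) (by norm_num)
  replace h := h.step 19 (by norm_num) (by norm_num)
  replace h := h.step 37 (by norm_num) (by norm_num)
  replace h := h.step 53 (by norm_num) (by norm_num)
  replace h := h.step 73 (by norm_num) (by norm_num)
  replace h := h.step 89 (by norm_num) (by norm_num)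
  replace h := h.step 109 (by norm_num) (by norm_num)
  replace h := h.step 127 (by norm_num) (by norm_num)
  replace h := h.step 139 (by norm_num) (by norm_num)
  replace h := h.step 157 (by norm_num) (by norm_num)
  replace h := h.step 173 (by norm_num) (by norm_num)
  replace h := h.step 193 (by norm_num) (by norm_num)
  replace h := h.step 211 (by norm_num) (by norm_num)
  replace h := h.step 229 (by norm_num) (by norm_num)
  replace h := h.step 241 (by norm_num) (by norm_num)
  replace h := h.step 257 (by norm_num) (by norm_num)
  replace h := h.step 277 (by norm_num) (by norm_num)
  replace h := h.step 293 (by norm_num) (by norm_num)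
  replace h := h.step 313 (by norm_num) (by norm_num)
  replace h := h.step 331 (by norm_num) (by norm_num)
  replace h := h.step 349 (by norm_num) (by norm_num)
  replace h := h.step 367 (by norm_num) (by norm_num)
  replace h := h.step 383 (by norm_num) (by norm_num)
  replace h := h.step 401 (by norm_num) (by norm_num)
  replace h := h.step 421 (by norm_num) (by norm_num)
  replace h := h.step 439 (by norm_num) (by norm_num)
  replace h := h.step 457 (by norm_num) (by norm_num)
  replace h := h.step 467 (by norm_num) (by norm_num)
  replace h := h.step 487 (by norm_num) (by norm_num)
  replace h := h.step 503 (by norm_num) (by norm_num)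
  replace h := h.step 523 (by norm_num) (by norm_num)
  replace h := h.step 541 (by norm_num) (by norm_num)
  replace h := h.step 557 (by norm_num) (by norm_num)
  replace h := h.step 577 (by norm_num) (by norm_num)
  replace h := h.step 593 (by norm_num) (by norm_num)
  replace h := h.step 613 (by norm_num) (by norm_num)
  replace h := h.step 631 (by norm_num) (by norm_num)
  replace h := h.step 647 (by norm_num) (by norm_num)
  replace h := h.step 661 (by norm_num) (by norm_num)
  replace h := h.step 677 (by norm_num) (by norm_num)
  replace h := h.step 691 (by norm_num) (by norm_num)
  replace h := h.step 709 (by norm_num) (by norm_num)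
  replace h := h.step 727 (by norm_num) (by norm_num)
  replace h := h.step 743 (by norm_num) (by norm_num)
  replace h := h.step 761 (by norm_num) (by norm_num)
  replace h := h.step 773 (by norm_num) (by norm_num)
  replace h := h.step 787 (by norm_num) (by norm_num)
  replace h := h.step 797 (by norm_num) (by norm_num)
  replace h := h.step 811 (by norm_num) (by norm_num)
  replace h := h.step 829 (by norm_num) (by norm_num)
  norm_num at h
  exact h

theorem covered_20_1 : Covered 20 1143 := by
  have h := covered_20_0
  replace h := h.step 839 (by norm_num) (by norm_num)
  replace h := h.step 859 (by norm_num) (by norm_num)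
  replace h := h.step 877 (by norm_num) (by norm_num)
  replace h := h.step 887 (by norm_num) (by norm_num)
  replace h := h.step 907 (by norm_num) (by norm_num)
  replace h := h.step 919 (by norm_num) (by norm_num)
  replace h := h.step 937 (by norm_num) (by norm_num)
  replace h := h.step 953 (by norm_num) (by norm_num)
  replace h := h.step 971 (by norm_num) (by norm_num)
  replace h := h.step 991 (by norm_num) (by norm_num)
  replace h := h.step 1009 (by norm_num) (by norm_num)
  replace h := h.step 1021 (by norm_num) (by norm_num)
  replace h := h.step 1039 (by norm_num) (by norm_num)
  replace h := h.step 1051 (by norm_num) (by norm_num)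
  replace h := h.step 1069 (by norm_num) (by norm_num)
  replace h := h.step 1087 (by norm_num) (by norm_num)
  replace h := h.step 1103 (by norm_num) (by norm_num)
  replace h := h.step 1123 (by norm_num) (by norm_num)
  norm_num at h
  exact h

theorem gaps_20 {m : ℕ} (h1 : 2 ≤ m) (h2 : m ≤ 1128) : ∃ p, p.Prime ∧ p ≤ m ∧ m < p + 20 :=
  covered_20_1 m h1 (lt_of_le_of_lt h2 (by norm_num))

theorem covered_72_0 : Covered 72 3415 := by
  have h := (covered_two 72)
  replace h := h.step 2 (by norm_num) (by norm_num)
  replace h := h.step 73 (by norm_num) (by norm_num)
  replace h := h.step 139 (by norm_num) (by norm_num)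
  replace h := h.step 211 (by norm_num) (by norm_num)
  replace h := h.step 283 (by norm_num) (by norm_num)
  replace h := h.step 353 (by norm_num) (by norm_num)
  replace h := h.step 421 (by norm_num) (by norm_num)
  replace h := h.step 491 (by norm_num) (by norm_num)
  replace h := h.step 563 (by norm_num) (by norm_num)
  replace h := h.step 631 (by norm_num) (by norm_num)
  replace h := h.step 701 (by norm_num) (by norm_num)
  replace h := h.step 773 (by norm_num) (by norm_num)
  replace h := h.step 839 (by norm_num) (by norm_num)
  replace h := h.step 911 (by norm_num) (by norm_num)
  replace h := h.step 983 (by norm_num) (by norm_num)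
  replace h := h.step 1051 (by norm_num) (by norm_num)
  replace h := h.step 1123 (by norm_num) (by norm_num)
  replace h := h.step 1193 (by norm_num) (by norm_num)
  replace h := h.step 1259 (by norm_num) (by norm_num)
  replace h := h.step 1327 (by norm_num) (by norm_num)
  replace h := h.step 1399 (by norm_num) (by norm_num)
  replace h := h.step 1471 (by norm_num) (by norm_num)
  replace h := h.step 1543 (by norm_num) (by norm_num)
  replace h := h.step 1613 (by norm_num) (by norm_num)
  replace h := h.step 1669 (by norm_num) (by norm_num)
  replace h := h.step 1741 (by norm_num) (by norm_num)
  replace h := h.step 1811 (by norm_num) (by norm_num)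
  replace h := h.step 1879 (by norm_num) (by norm_num)
  replace h := h.step 1951 (by norm_num) (by norm_num)
  replace h := h.step 2017 (by norm_num) (by norm_num)
  replace h := h.step 2089 (by norm_num) (by norm_num)
  replace h := h.step 2161 (by norm_num) (by norm_num)
  replace h := h.step 2221 (by norm_num) (by norm_num)
  replace h := h.step 2293 (by norm_num) (by norm_num)
  replace h := h.step 2357 (by norm_num) (by norm_num)
  replace h := h.step 2423 (by norm_num) (by norm_num)
  replace h := h.step 2477 (by norm_num) (by norm_num)
  replace h := h.step 2549 (by norm_num) (by norm_num)
  replace h := h.step 2621 (by norm_num) (by norm_num)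
  replace h := h.step 2693 (by norm_num) (by norm_num)
  replace h := h.step 2753 (by norm_num) (by norm_num)
  replace h := h.step 2819 (by norm_num) (by norm_num)
  replace h := h.step 2887 (by norm_num) (by norm_num)
  replace h := h.step 2957 (by norm_num) (by norm_num)
  replace h := h.step 3023 (by norm_num) (by norm_num)
  replace h := h.step 3089 (by norm_num) (by norm_num)
  replace h := h.step 3137 (by norm_num) (by norm_num)
  replace h := h.step 3209 (by norm_num) (by norm_num)
  replace h := h.step 3271 (by norm_num) (by norm_num)
  replace h := h.step 3343 (by norm_num) (by norm_num)
  norm_num at h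
  exact h

theorem covered_72_1 : Covered 72 6763 := by
  have h := covered_72_0
  replace h := h.step 3413 (by norm_num) (by norm_num)
  replace h := h.step 3469 (by norm_num) (by norm_num)
  replace h := h.step 3541 (by norm_num) (by norm_num)
  replace h := h.step 3613 (by norm_num) (by norm_num)
  replace h := h.step 3677 (by norm_num) (by norm_num)
  replace h := h.step 3739 (by norm_num) (by norm_num)
  replace h := h.step 3803 (by norm_num) (by norm_num)
  replace h := h.step 3863 (by norm_num) (by norm_num)
  replace h := h.step 3931 (by norm_num) (by norm_num)
  replace h := h.step 4003 (by norm_num) (by norm_num)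
  replace h := h.step 4073 (by norm_num) (by norm_num)
  replace h := h.step 4139 (by norm_num) (by norm_num)
  replace h := h.step 4211 (by norm_num) (by norm_num)
  replace h := h.step 4283 (by norm_num) (by norm_num)
  replace h := h.step 4349 (by norm_num) (by norm_num)
  replace h := h.step 4421 (by norm_num) (by norm_num)
  replace h := h.step 4493 (by norm_num) (by norm_num)
  replace h := h.step 4561 (by norm_num) (by norm_num)
  replace h := h.step 4621 (by norm_num) (by norm_num)
  replace h := h.step 4691 (by norm_num) (by norm_num)
  replace h := h.step 4759 (by norm_num) (by norm_num)
  replace h := h.step 4831 (by norm_num) (by norm_num)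
  replace h := h.step 4903 (by norm_num) (by norm_num)
  replace h := h.step 4973 (by norm_num) (by norm_num)
  replace h := h.step 5039 (by norm_num) (by norm_num)
  replace h := h.step 5107 (by norm_num) (by norm_num)
  replace h := h.step 5179 (by norm_num) (by norm_num)
  replace h := h.step 5237 (by norm_num) (by norm_num)
  replace h := h.step 5309 (by norm_num) (by norm_num)
  replace h := h.step 5381 (by norm_num) (by norm_num)
  replace h := h.step 5449 (by norm_num) (by norm_num)
  replace h := h.step 5521 (by norm_num) (by norm_num)
  replace h := h.step 5591 (by norm_num) (by norm_num)
  replace h := h.step 5659 (by norm_num) (by norm_num)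
  replace h := h.step 5717 (by norm_num) (by norm_num)
  replace h := h.step 5783 (by norm_num) (by norm_num)
  replace h := h.step 5851 (by norm_num) (by norm_num)
  replace h := h.step 5923 (by norm_num) (by norm_num)
  replace h := h.step 5987 (by norm_num) (by norm_num)
  replace h := h.step 6053 (by norm_num) (by norm_num)
  replace h := h.step 6121 (by norm_num) (by norm_num)
  replace h := h.step 6173 (by norm_num) (by norm_num)
  replace h := h.step 6229 (by norm_num) (by norm_num)
  replace h := h.step 6301 (by norm_num) (by norm_num)
  replace h := h.step 6373 (by norm_num) (by norm_num)
  replace h := h.step 6427 (by norm_num) (by norm_num)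
  replace h := h.step 6491 (by norm_num) (by norm_num)
  replace h := h.step 6563 (by norm_num) (by norm_num)
  replace h := h.step 6619 (by norm_num) (by norm_num)
  replace h := h.step 6691 (by norm_num) (by norm_num)
  norm_num at h
  exact h

theorem covered_72_2 : Covered 72 10081 := by
  have h := covered_72_1
  replace h := h.step 6763 (by norm_num) (by norm_num)
  replace h := h.step 6833 (by norm_num) (by norm_num)
  replace h := h.step 6899 (by norm_num) (by norm_num)
  replace h := h.step 6971 (by norm_num) (by norm_num)
  replace h := h.step 7043 (by norm_num) (by norm_num)
  replace h := h.step 7109 (by norm_num) (by norm_num)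
  replace h := h.step 7177 (by norm_num) (by norm_num)
  replace h := h.step 7247 (by norm_num) (by norm_num)
  replace h := h.step 7309 (by norm_num) (by norm_num)
  replace h := h.step 7369 (by norm_num) (by norm_num)
  replace h := h.step 7433 (by norm_num) (by norm_num)
  replace h := h.step 7499 (by norm_num) (by norm_num)
  replace h := h.step 7561 (by norm_num) (by norm_num)
  replace h := h.step 7621 (by norm_num) (by norm_num)
  replace h := h.step 7691 (by norm_num) (by norm_num)
  replace h := h.step 7759 (by norm_num) (by norm_num)
  replace h := h.step 7829 (by norm_num) (by norm_num)
  replace h := h.step 7901 (by norm_num) (by norm_num)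
  replace h := h.step 7963 (by norm_num) (by norm_num)
  replace h := h.step 8017 (by norm_num) (by norm_num)
  replace h := h.step 8089 (by norm_num) (by norm_num)
  replace h := h.step 8161 (by norm_num) (by norm_num)
  replace h := h.step 8233 (by norm_num) (by norm_num)
  replace h := h.step 8297 (by norm_num) (by norm_num)
  replace h := h.step 8369 (by norm_num) (by norm_num)
  replace h := h.step 8431 (by norm_num) (by norm_num)
  replace h := h.step 8501 (by norm_num) (by norm_num)
  replace h := h.step 8573 (by norm_num) (by norm_num)
  replace h := h.step 8641 (by norm_num) (by norm_num)
  replace h := h.step 8713 (by norm_num) (by norm_num)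
  replace h := h.step 8783 (by norm_num) (by norm_num)
  replace h := h.step 8849 (by norm_num) (by norm_num)
  replace h := h.step 8893 (by norm_num) (by norm_num)
  replace h := h.step 8963 (by norm_num) (by norm_num)
  replace h := h.step 9029 (by norm_num) (by norm_num)
  replace h := h.step 9091 (by norm_num) (by norm_num)
  replace h := h.step 9161 (by norm_num) (by norm_num)
  replace h := h.step 9227 (by norm_num) (by norm_num)
  replace h := h.step 9293 (by norm_num) (by norm_num)
  replace h := h.step 9349 (by norm_num) (by norm_num)
  replace h := h.step 9421 (by norm_num) (by norm_num)
  replace h := h.step 9491 (by norm_num) (by norm_num)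
  replace h := h.step 9551 (by norm_num) (by norm_num)
  replace h := h.step 9623 (by norm_num) (by norm_num)
  replace h := h.step 9689 (by norm_num) (by norm_num)
  replace h := h.step 9749 (by norm_num) (by norm_num)
  replace h := h.step 9817 (by norm_num) (by norm_num)
  replace h := h.step 9887 (by norm_num) (by norm_num)
  replace h := h.step 9949 (by norm_num) (by norm_num)
  replace h := h.step 10009 (by norm_num) (by norm_num)
  norm_num at h
  exact h

theorem covered_72_3 : Covered 72 13453 := by
  have h := covered_72_2
  replace h := h.step 10079 (by norm_num) (by norm_num)
  replace h := h.step 10151 (by norm_num) (by norm_num)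
  replace h := h.step 10223 (by norm_num) (by norm_num)
  replace h := h.step 10289 (by norm_num) (by norm_num)
  replace h := h.step 10357 (by norm_num) (by norm_num)
  replace h := h.step 10429 (by norm_num) (by norm_num)
  replace h := h.step 10501 (by norm_num) (by norm_num)
  replace h := h.step 10567 (by norm_num) (by norm_num)
  replace h := h.step 10639 (by norm_num) (by norm_num)
  replace h := h.step 10711 (by norm_num) (by norm_num)
  replace h := h.step 10781 (by norm_num) (by norm_num)
  replace h := h.step 10853 (by norm_num) (by norm_num)
  replace h := h.step 10909 (by norm_num) (by norm_num)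
  replace h := h.step 10979 (by norm_num) (by norm_num)
  replace h := h.step 11047 (by norm_num) (by norm_num)
  replace h := h.step 11119 (by norm_num) (by norm_num)
  replace h := h.step 11177 (by norm_num) (by norm_num)
  replace h := h.step 11243 (by norm_num) (by norm_num)
  replace h := h.step 11311 (by norm_num) (by norm_num)
  replace h := h.step 11383 (by norm_num) (by norm_num)
  replace h := h.step 11447 (by norm_num) (by norm_num)
  replace h := h.step 11519 (by norm_num) (by norm_num)
  replace h := h.step 11587 (by norm_num) (by norm_num)
  replace h := h.step 11657 (by norm_num) (by norm_num)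
  replace h := h.step 11719 (by norm_num) (by norm_num)
  replace h := h.step 11789 (by norm_num) (by norm_num)
  replace h := h.step 11839 (by norm_num) (by norm_num)
  replace h := h.step 11909 (by norm_num) (by norm_num)
  replace h := h.step 11981 (by norm_num) (by norm_num)
  replace h := h.step 12049 (by norm_num) (by norm_num)
  replace h := h.step 12119 (by norm_num) (by norm_num)
  replace h := h.step 12163 (by norm_num) (by norm_num)
  replace h := h.step 12227 (by norm_num) (by norm_num)
  replace h := h.step 12289 (by norm_num) (by norm_num)
  replace h := h.step 12347 (by norm_num) (by norm_num)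
  replace h := h.step 12413 (by norm_num) (by norm_num)
  replace h := h.step 12479 (by norm_num) (by norm_num)
  replace h := h.step 12547 (by norm_num) (by norm_num)
  replace h := h.step 12619 (by norm_num) (by norm_num)
  replace h := h.step 12689 (by norm_num) (by norm_num)
  replace h := h.step 12757 (by norm_num) (by norm_num)
  replace h := h.step 12829 (by norm_num) (by norm_num)
  replace h := h.step 12899 (by norm_num) (by norm_num)
  replace h := h.step 12967 (by norm_num) (by norm_num)
  replace h := h.step 13037 (by norm_num) (by norm_num)
  replace h := h.step 13109 (by norm_num) (by norm_num)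
  replace h := h.step 13177 (by norm_num) (by norm_num)
  replace h := h.step 13249 (by norm_num) (by norm_num)
  replace h := h.step 13313 (by norm_num) (by norm_num)
  replace h := h.step 13381 (by norm_num) (by norm_num)
  norm_num at h
  exact h

theorem covered_72_4 : Covered 72 16775 := by
  have h := covered_72_3
  replace h := h.step 13451 (by norm_num) (by norm_num)
  replace h := h.step 13523 (by norm_num) (by norm_num)
  replace h := h.step 13591 (by norm_num) (by norm_num)
  replace h := h.step 13649 (by norm_num) (by norm_num)
  replace h := h.step 13721 (by norm_num) (by norm_num)
  replace h := h.step 13789 (by norm_num) (by norm_num)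
  replace h := h.step 13859 (by norm_num) (by norm_num)
  replace h := h.step 13931 (by norm_num) (by norm_num)
  replace h := h.step 13999 (by norm_num) (by norm_num)
  replace h := h.step 14071 (by norm_num) (by norm_num)
  replace h := h.step 14143 (by norm_num) (by norm_num)
  replace h := h.step 14207 (by norm_num) (by norm_num)
  replace h := h.step 14251 (by norm_num) (by norm_num)
  replace h := h.step 14323 (by norm_num) (by norm_num)
  replace h := h.step 14389 (by norm_num) (by norm_num)
  replace h := h.step 14461 (by norm_num) (by norm_num)
  replace h := h.step 14533 (by norm_num) (by norm_num)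
  replace h := h.step 14593 (by norm_num) (by norm_num)
  replace h := h.step 14657 (by norm_num) (by norm_num)
  replace h := h.step 14723 (by norm_num) (by norm_num)
  replace h := h.step 14783 (by norm_num) (by norm_num)
  replace h := h.step 14851 (by norm_num) (by norm_num)
  replace h := h.step 14923 (by norm_num) (by norm_num)
  replace h := h.step 14983 (by norm_num) (by norm_num)
  replace h := h.step 15053 (by norm_num) (by norm_num)
  replace h := h.step 15121 (by norm_num) (by norm_num)
  replace h := h.step 15193 (by norm_num) (by norm_num)
  replace h := h.step 15263 (by norm_num) (by norm_num)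
  replace h := h.step 15331 (by norm_num) (by norm_num)
  replace h := h.step 15401 (by norm_num) (by norm_num)
  replace h := h.step 15473 (by norm_num) (by norm_num)
  replace h := h.step 15541 (by norm_num) (by norm_num)
  replace h := h.step 15607 (by norm_num) (by norm_num)
  replace h := h.step 15679 (by norm_num) (by norm_num)
  replace h := h.step 15749 (by norm_num) (by norm_num)
  replace h := h.step 15817 (by norm_num) (by norm_num)
  replace h := h.step 15889 (by norm_num) (by norm_num)
  replace h := h.step 15959 (by norm_num) (by norm_num)
  replace h := h.step 16007 (by norm_num) (by norm_num)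
  replace h := h.step 16073 (by norm_num) (by norm_num)
  replace h := h.step 16141 (by norm_num) (by norm_num)
  replace h := h.step 16193 (by norm_num) (by norm_num)
  replace h := h.step 16253 (by norm_num) (by norm_num)
  replace h := h.step 16319 (by norm_num) (by norm_num)
  replace h := h.step 16381 (by norm_num) (by norm_num)
  replace h := h.step 16453 (by norm_num) (by norm_num)
  replace h := h.step 16519 (by norm_num) (by norm_num)
  replace h := h.step 16573 (by norm_num) (by norm_num)
  replace h := h.step 16633 (by norm_num) (by norm_num)
  replace h := h.step 16703 (by norm_num) (by norm_num)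
  norm_num at h
  exact h

theorem covered_72_5 : Covered 72 20069 := by
  have h := covered_72_4
  replace h := h.step 16763 (by norm_num) (by norm_num)
  replace h := h.step 16831 (by norm_num) (by norm_num)
  replace h := h.step 16903 (by norm_num) (by norm_num)
  replace h := h.step 16963 (by norm_num) (by norm_num)
  replace h := h.step 17033 (by norm_num) (by norm_num)
  replace h := h.step 17099 (by norm_num) (by norm_num)
  replace h := h.step 17167 (by norm_num) (by norm_num)
  replace h := h.step 17239 (by norm_num) (by norm_num)
  replace h := h.step 17299 (by norm_num) (by norm_num)
  replace h := h.step 17359 (by norm_num) (by norm_num)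
  replace h := h.step 17431 (by norm_num) (by norm_num)
  replace h := h.step 17497 (by norm_num) (by norm_num)
  replace h := h.step 17569 (by norm_num) (by norm_num)
  replace h := h.step 17627 (by norm_num) (by norm_num)
  replace h := h.step 17683 (by norm_num) (by norm_num)
  replace h := h.step 17749 (by norm_num) (by norm_num)
  replace h := h.step 17807 (by norm_num) (by norm_num)
  replace h := h.step 17863 (by norm_num) (by norm_num)
  replace h := h.step 17929 (by norm_num) (by norm_num)
  replace h := h.step 17989 (by norm_num) (by norm_num)
  replace h := h.step 18061 (by norm_num) (by norm_num)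
  replace h := h.step 18133 (by norm_num) (by norm_num)
  replace h := h.step 18199 (by norm_num) (by norm_num)
  replace h := h.step 18269 (by norm_num) (by norm_num)
  replace h := h.step 18341 (by norm_num) (by norm_num)
  replace h := h.step 18413 (by norm_num) (by norm_num)
  replace h := h.step 18481 (by norm_num) (by norm_num)
  replace h := h.step 18553 (by norm_num) (by norm_num)
  replace h := h.step 18617 (by norm_num) (by norm_num)
  replace h := h.step 18679 (by norm_num) (by norm_num)
  replace h := h.step 18749 (by norm_num) (by norm_num)
  replace h := h.step 18803 (by norm_num) (by norm_num)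
  replace h := h.step 18869 (by norm_num) (by norm_num)
  replace h := h.step 18919 (by norm_num) (by norm_num)
  replace h := h.step 18979 (by norm_num) (by norm_num)
  replace h := h.step 19051 (by norm_num) (by norm_num)
  replace h := h.step 19121 (by norm_num) (by norm_num)
  replace h := h.step 19183 (by norm_num) (by norm_num)
  replace h := h.step 19249 (by norm_num) (by norm_num)
  replace h := h.step 19319 (by norm_num) (by norm_num)
  replace h := h.step 19391 (by norm_num) (by norm_num)
  replace h := h.step 19463 (by norm_num) (by norm_num)
  replace h := h.step 19531 (by norm_num) (by norm_num)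
  replace h := h.step 19603 (by norm_num) (by norm_num)
  replace h := h.step 19661 (by norm_num) (by norm_num)
  replace h := h.step 19727 (by norm_num) (by norm_num)
  replace h := h.step 19793 (by norm_num) (by norm_num)
  replace h := h.step 19861 (by norm_num) (by norm_num)
  replace h := h.step 19927 (by norm_num) (by norm_num)
  replace h := h.step 19997 (by norm_num) (by norm_num)
  norm_num at h
  exact h

theorem covered_72_6 : Covered 72 23411 := by
  have h := covered_72_5
  replace h := h.step 20063 (by norm_num) (by norm_num)
  replace h := h.step 20129 (by norm_num) (by norm_num)
  replace h := h.step 20201 (by norm_num) (by norm_num)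
  replace h := h.step 20269 (by norm_num) (by norm_num)
  replace h := h.step 20341 (by norm_num) (by norm_num)
  replace h := h.step 20411 (by norm_num) (by norm_num)
  replace h := h.step 20483 (by norm_num) (by norm_num)
  replace h := h.step 20551 (by norm_num) (by norm_num)
  replace h := h.step 20611 (by norm_num) (by norm_num)
  replace h := h.step 20681 (by norm_num) (by norm_num)
  replace h := h.step 20753 (by norm_num) (by norm_num)
  replace h := h.step 20809 (by norm_num) (by norm_num)
  replace h := h.step 20879 (by norm_num) (by norm_num)
  replace h := h.step 20947 (by norm_num) (by norm_num)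
  replace h := h.step 21019 (by norm_num) (by norm_num)
  replace h := h.step 21089 (by norm_num) (by norm_num)
  replace h := h.step 21157 (by norm_num) (by norm_num)
  replace h := h.step 21227 (by norm_num) (by norm_num)
  replace h := h.step 21283 (by norm_num) (by norm_num)
  replace h := h.step 21347 (by norm_num) (by norm_num)
  replace h := h.step 21419 (by norm_num) (by norm_num)
  replace h := h.step 21491 (by norm_num) (by norm_num)
  replace h := h.step 21563 (by norm_num) (by norm_num)
  replace h := h.step 21617 (by norm_num) (by norm_num)
  replace h := h.step 21683 (by norm_num) (by norm_num)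
  replace h := h.step 21751 (by norm_num) (by norm_num)
  replace h := h.step 21821 (by norm_num) (by norm_num)
  replace h := h.step 21893 (by norm_num) (by norm_num)
  replace h := h.step 21961 (by norm_num) (by norm_num)
  replace h := h.step 22031 (by norm_num) (by norm_num)
  replace h := h.step 22093 (by norm_num) (by norm_num)
  replace h := h.step 22159 (by norm_num) (by norm_num)
  replace h := h.step 22229 (by norm_num) (by norm_num)
  replace h := h.step 22291 (by norm_num) (by norm_num)
  replace h := h.step 22349 (by norm_num) (by norm_num)
  replace h := h.step 22409 (by norm_num) (by norm_num)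
  replace h := h.step 22481 (by norm_num) (by norm_num)
  replace h := h.step 22549 (by norm_num) (by norm_num)
  replace h := h.step 22621 (by norm_num) (by norm_num)
  replace h := h.step 22691 (by norm_num) (by norm_num)
  replace h := h.step 22751 (by norm_num) (by norm_num)
  replace h := h.step 22817 (by norm_num) (by norm_num)
  replace h := h.step 22877 (by norm_num) (by norm_num)
  replace h := h.step 22943 (by norm_num) (by norm_num)
  replace h := h.step 23011 (by norm_num) (by norm_num)
  replace h := h.step 23081 (by norm_num) (by norm_num)
  replace h := h.step 23143 (by norm_num) (by norm_num)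
  replace h := h.step 23209 (by norm_num) (by norm_num)
  replace h := h.step 23279 (by norm_num) (by norm_num)
  replace h := h.step 23339 (by norm_num) (by norm_num)
  norm_num at h
  exact h

theorem covered_72_7 : Covered 72 26645 := by
  have h := covered_72_6
  replace h := h.step 23399 (by norm_num) (by norm_num)
  replace h := h.step 23459 (by norm_num) (by norm_num)
  replace h := h.step 23531 (by norm_num) (by norm_num)
  replace h := h.step 23603 (by norm_num) (by norm_num)
  replace h := h.step 23671 (by norm_num) (by norm_num)
  replace h := h.step 23743 (by norm_num) (by norm_num)
  replace h := h.step 23813 (by norm_num) (by norm_num)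
  replace h := h.step 23879 (by norm_num) (by norm_num)
  replace h := h.step 23929 (by norm_num) (by norm_num)
  replace h := h.step 24001 (by norm_num) (by norm_num)
  replace h := h.step 24071 (by norm_num) (by norm_num)
  replace h := h.step 24137 (by norm_num) (by norm_num)
  replace h := h.step 24203 (by norm_num) (by norm_num)
  replace h := h.step 24251 (by norm_num) (by norm_num)
  replace h := h.step 24317 (by norm_num) (by norm_num)
  replace h := h.step 24379 (by norm_num) (by norm_num)
  replace h := h.step 24443 (by norm_num) (by norm_num)
  replace h := h.step 24509 (by norm_num) (by norm_num)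
  replace h := h.step 24571 (by norm_num) (by norm_num)
  replace h := h.step 24631 (by norm_num) (by norm_num)
  replace h := h.step 24697 (by norm_num) (by norm_num)
  replace h := h.step 24767 (by norm_num) (by norm_num)
  replace h := h.step 24821 (by norm_num) (by norm_num)
  replace h := h.step 24889 (by norm_num) (by norm_num)
  replace h := h.step 24953 (by norm_num) (by norm_num)
  replace h := h.step 25013 (by norm_num) (by norm_num)
  replace h := h.step 25073 (by norm_num) (by norm_num)
  replace h := h.step 25127 (by norm_num) (by norm_num)
  replace h := h.step 25189 (by norm_num) (by norm_num)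
  replace h := h.step 25261 (by norm_num) (by norm_num)
  replace h := h.step 25321 (by norm_num) (by norm_num)
  replace h := h.step 25391 (by norm_num) (by norm_num)
  replace h := h.step 25463 (by norm_num) (by norm_num)
  replace h := h.step 25523 (by norm_num) (by norm_num)
  replace h := h.step 25589 (by norm_num) (by norm_num)
  replace h := h.step 25657 (by norm_num) (by norm_num)
  replace h := h.step 25717 (by norm_num) (by norm_num)
  replace h := h.step 25771 (by norm_num) (by norm_num)
  replace h := h.step 25841 (by norm_num) (by norm_num)
  replace h := h.step 25913 (by norm_num) (by norm_num)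
  replace h := h.step 25981 (by norm_num) (by norm_num)
  replace h := h.step 26053 (by norm_num) (by norm_num)
  replace h := h.step 26119 (by norm_num) (by norm_num)
  replace h := h.step 26189 (by norm_num) (by norm_num)
  replace h := h.step 26261 (by norm_num) (by norm_num)
  replace h := h.step 26321 (by norm_num) (by norm_num)
  replace h := h.step 26393 (by norm_num) (by norm_num)
  replace h := h.step 26459 (by norm_num) (by norm_num)
  replace h := h.step 26513 (by norm_num) (by norm_num)
  replace h := h.step 26573 (by norm_num) (by norm_num)
  norm_num at h
  exact h

theorem covered_72_8 : Covered 72 29945 := by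
  have h := covered_72_7
  replace h := h.step 26641 (by norm_num) (by norm_num)
  replace h := h.step 26713 (by norm_num) (by norm_num)
  replace h := h.step 26783 (by norm_num) (by norm_num)
  replace h := h.step 26849 (by norm_num) (by norm_num)
  replace h := h.step 26921 (by norm_num) (by norm_num)
  replace h := h.step 26993 (by norm_num) (by norm_num)
  replace h := h.step 27061 (by norm_num) (by norm_num)
  replace h := h.step 27127 (by norm_num) (by norm_num)
  replace h := h.step 27197 (by norm_num) (by norm_num)
  replace h := h.step 27259 (by norm_num) (by norm_num)
  replace h := h.step 27329 (by norm_num) (by norm_num)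
  replace h := h.step 27397 (by norm_num) (by norm_num)
  replace h := h.step 27457 (by norm_num) (by norm_num)
  replace h := h.step 27529 (by norm_num) (by norm_num)
  replace h := h.step 27583 (by norm_num) (by norm_num)
  replace h := h.step 27653 (by norm_num) (by norm_num)
  replace h := h.step 27701 (by norm_num) (by norm_num)
  replace h := h.step 27773 (by norm_num) (by norm_num)
  replace h := h.step 27827 (by norm_num) (by norm_num)
  replace h := h.step 27893 (by norm_num) (by norm_num)
  replace h := h.step 27961 (by norm_num) (by norm_num)
  replace h := h.step 28031 (by norm_num) (by norm_num)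
  replace h := h.step 28099 (by norm_num) (by norm_num)
  replace h := h.step 28163 (by norm_num) (by norm_num)
  replace h := h.step 28229 (by norm_num) (by norm_num)
  replace h := h.step 28297 (by norm_num) (by norm_num)
  replace h := h.step 28351 (by norm_num) (by norm_num)
  replace h := h.step 28411 (by norm_num) (by norm_num)
  replace h := h.step 28477 (by norm_num) (by norm_num)
  replace h := h.step 28549 (by norm_num) (by norm_num)
  replace h := h.step 28621 (by norm_num) (by norm_num)
  replace h := h.step 28687 (by norm_num) (by norm_num)
  replace h := h.step 28759 (by norm_num) (by norm_num)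
  replace h := h.step 28817 (by norm_num) (by norm_num)
  replace h := h.step 28879 (by norm_num) (by norm_num)
  replace h := h.step 28949 (by norm_num) (by norm_num)
  replace h := h.step 29021 (by norm_num) (by norm_num)
  replace h := h.step 29077 (by norm_num) (by norm_num)
  replace h := h.step 29147 (by norm_num) (by norm_num)
  replace h := h.step 29209 (by norm_num) (by norm_num)
  replace h := h.step 29269 (by norm_num) (by norm_num)
  replace h := h.step 29339 (by norm_num) (by norm_num)
  replace h := h.step 29411 (by norm_num) (by norm_num)
  replace h := h.step 29483 (by norm_num) (by norm_num)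
  replace h := h.step 29537 (by norm_num) (by norm_num)
  replace h := h.step 29599 (by norm_num) (by norm_num)
  replace h := h.step 29671 (by norm_num) (by norm_num)
  replace h := h.step 29741 (by norm_num) (by norm_num)
  replace h := h.step 29803 (by norm_num) (by norm_num)
  replace h := h.step 29873 (by norm_num) (by norm_num)
  norm_num at h
  exact h

theorem covered_72_9 : Covered 72 33191 := by
  have h := covered_72_8
  replace h := h.step 29927 (by norm_num) (by norm_num)
  replace h := h.step 29989 (by norm_num) (by norm_num)
  replace h := h.step 30059 (by norm_num) (by norm_num)
  replace h := h.step 30119 (by norm_num) (by norm_num)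
  replace h := h.step 30187 (by norm_num) (by norm_num)
  replace h := h.step 30259 (by norm_num) (by norm_num)
  replace h := h.step 30323 (by norm_num) (by norm_num)
  replace h := h.step 30391 (by norm_num) (by norm_num)
  replace h := h.step 30449 (by norm_num) (by norm_num)
  replace h := h.step 30517 (by norm_num) (by norm_num)
  replace h := h.step 30577 (by norm_num) (by norm_num)
  replace h := h.step 30649 (by norm_num) (by norm_num)
  replace h := h.step 30713 (by norm_num) (by norm_num)
  replace h := h.step 30781 (by norm_num) (by norm_num)
  replace h := h.step 30853 (by norm_num) (by norm_num)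
  replace h := h.step 30911 (by norm_num) (by norm_num)
  replace h := h.step 30983 (by norm_num) (by norm_num)
  replace h := h.step 31051 (by norm_num) (by norm_num)
  replace h := h.step 31123 (by norm_num) (by norm_num)
  replace h := h.step 31193 (by norm_num) (by norm_num)
  replace h := h.step 31259 (by norm_num) (by norm_num)
  replace h := h.step 31327 (by norm_num) (by norm_num)
  replace h := h.step 31397 (by norm_num) (by norm_num)
  replace h := h.step 31469 (by norm_num) (by norm_num)
  replace h := h.step 31541 (by norm_num) (by norm_num)
  replace h := h.step 31607 (by norm_num) (by norm_num)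
  replace h := h.step 31667 (by norm_num) (by norm_num)
  replace h := h.step 31729 (by norm_num) (by norm_num)
  replace h := h.step 31799 (by norm_num) (by norm_num)
  replace h := h.step 31859 (by norm_num) (by norm_num)
  replace h := h.step 31907 (by norm_num) (by norm_num)
  replace h := h.step 31973 (by norm_num) (by norm_num)
  replace h := h.step 32029 (by norm_num) (by norm_num)
  replace h := h.step 32099 (by norm_num) (by norm_num)
  replace h := h.step 32159 (by norm_num) (by norm_num)
  replace h := h.step 32213 (by norm_num) (by norm_num)
  replace h := h.step 32261 (by norm_num) (by norm_num)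
  replace h := h.step 32327 (by norm_num) (by norm_num)
  replace h := h.step 32381 (by norm_num) (by norm_num)
  replace h := h.step 32443 (by norm_num) (by norm_num)
  replace h := h.step 32507 (by norm_num) (by norm_num)
  replace h := h.step 32579 (by norm_num) (by norm_num)
  replace h := h.step 32647 (by norm_num) (by norm_num)
  replace h := h.step 32719 (by norm_num) (by norm_num)
  replace h := h.step 32789 (by norm_num) (by norm_num)
  replace h := h.step 32843 (by norm_num) (by norm_num)
  replace h := h.step 32911 (by norm_num) (by norm_num)
  replace h := h.step 32983 (by norm_num) (by norm_num)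
  replace h := h.step 33053 (by norm_num) (by norm_num)
  replace h := h.step 33119 (by norm_num) (by norm_num)
  norm_num at h
  exact h

theorem covered_72_10 : Covered 72 36415 := by
  have h := covered_72_9
  replace h := h.step 33191 (by norm_num) (by norm_num)
  replace h := h.step 33247 (by norm_num) (by norm_num)
  replace h := h.step 33317 (by norm_num) (by norm_num)
  replace h := h.step 33377 (by norm_num) (by norm_num)
  replace h := h.step 33427 (by norm_num) (by norm_num)
  replace h := h.step 33493 (by norm_num) (by norm_num)
  replace h := h.step 33563 (by norm_num) (by norm_num)
  replace h := h.step 33629 (by norm_num) (by norm_num)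
  replace h := h.step 33679 (by norm_num) (by norm_num)
  replace h := h.step 33751 (by norm_num) (by norm_num)
  replace h := h.step 33811 (by norm_num) (by norm_num)
  replace h := h.step 33871 (by norm_num) (by norm_num)
  replace h := h.step 33941 (by norm_num) (by norm_num)
  replace h := h.step 33997 (by norm_num) (by norm_num)
  replace h := h.step 34061 (by norm_num) (by norm_num)
  replace h := h.step 34129 (by norm_num) (by norm_num)
  replace h := h.step 34183 (by norm_num) (by norm_num)
  replace h := h.step 34253 (by norm_num) (by norm_num)
  replace h := h.step 34319 (by norm_num) (by norm_num)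
  replace h := h.step 34381 (by norm_num) (by norm_num)
  replace h := h.step 34439 (by norm_num) (by norm_num)
  replace h := h.step 34511 (by norm_num) (by norm_num)
  replace h := h.step 34583 (by norm_num) (by norm_num)
  replace h := h.step 34651 (by norm_num) (by norm_num)
  replace h := h.step 34721 (by norm_num) (by norm_num)
  replace h := h.step 34781 (by norm_num) (by norm_num)
  replace h := h.step 34849 (by norm_num) (by norm_num)
  replace h := h.step 34919 (by norm_num) (by norm_num)
  replace h := h.step 34981 (by norm_num) (by norm_num)
  replace h := h.step 35053 (by norm_num) (by norm_num)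
  replace h := h.step 35117 (by norm_num) (by norm_num)
  replace h := h.step 35171 (by norm_num) (by norm_num)
  replace h := h.step 35227 (by norm_num) (by norm_num)
  replace h := h.step 35291 (by norm_num) (by norm_num)
  replace h := h.step 35363 (by norm_num) (by norm_num)
  replace h := h.step 35423 (by norm_num) (by norm_num)
  replace h := h.step 35491 (by norm_num) (by norm_num)
  replace h := h.step 35543 (by norm_num) (by norm_num)
  replace h := h.step 35603 (by norm_num) (by norm_num)
  replace h := h.step 35671 (by norm_num) (by norm_num)
  replace h := h.step 35731 (by norm_num) (by norm_num)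
  replace h := h.step 35803 (by norm_num) (by norm_num)
  replace h := h.step 35869 (by norm_num) (by norm_num)
  replace h := h.step 35933 (by norm_num) (by norm_num)
  replace h := h.step 35999 (by norm_num) (by norm_num)
  replace h := h.step 36067 (by norm_num) (by norm_num)
  replace h := h.step 36137 (by norm_num) (by norm_num)
  replace h := h.step 36209 (by norm_num) (by norm_num)
  replace h := h.step 36277 (by norm_num) (by norm_num)
  replace h := h.step 36343 (by norm_num) (by norm_num)
  norm_num at h
  exact h

theorem covered_72_11 : Covered 72 39653 := by
  have h := covered_72_10
  replace h := h.step 36389 (by norm_num) (by norm_num)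
  replace h := h.step 36457 (by norm_num) (by norm_num)
  replace h := h.step 36529 (by norm_num) (by norm_num)
  replace h := h.step 36599 (by norm_num) (by norm_num)
  replace h := h.step 36671 (by norm_num) (by norm_num)
  replace h := h.step 36739 (by norm_num) (by norm_num)
  replace h := h.step 36809 (by norm_num) (by norm_num)
  replace h := h.step 36877 (by norm_num) (by norm_num)
  replace h := h.step 36947 (by norm_num) (by norm_num)
  replace h := h.step 37019 (by norm_num) (by norm_num)
  replace h := h.step 37087 (by norm_num) (by norm_num)
  replace h := h.step 37159 (by norm_num) (by norm_num)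
  replace h := h.step 37223 (by norm_num) (by norm_num)
  replace h := h.step 37277 (by norm_num) (by norm_num)
  replace h := h.step 37339 (by norm_num) (by norm_num)
  replace h := h.step 37409 (by norm_num) (by norm_num)
  replace h := h.step 37463 (by norm_num) (by norm_num)
  replace h := h.step 37529 (by norm_num) (by norm_num)
  replace h := h.step 37591 (by norm_num) (by norm_num)
  replace h := h.step 37663 (by norm_num) (by norm_num)
  replace h := h.step 37717 (by norm_num) (by norm_num)
  replace h := h.step 37783 (by norm_num) (by norm_num)
  replace h := h.step 37853 (by norm_num) (by norm_num)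
  replace h := h.step 37907 (by norm_num) (by norm_num)
  replace h := h.step 37967 (by norm_num) (by norm_num)
  replace h := h.step 38039 (by norm_num) (by norm_num)
  replace h := h.step 38083 (by norm_num) (by norm_num)
  replace h := h.step 38153 (by norm_num) (by norm_num)
  replace h := h.step 38219 (by norm_num) (by norm_num)
  replace h := h.step 38287 (by norm_num) (by norm_num)
  replace h := h.step 38351 (by norm_num) (by norm_num)
  replace h := h.step 38393 (by norm_num) (by norm_num)
  replace h := h.step 38461 (by norm_num) (by norm_num)
  replace h := h.step 38501 (by norm_num) (by norm_num)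
  replace h := h.step 38569 (by norm_num) (by norm_num)
  replace h := h.step 38639 (by norm_num) (by norm_num)
  replace h := h.step 38711 (by norm_num) (by norm_num)
  replace h := h.step 38783 (by norm_num) (by norm_num)
  replace h := h.step 38851 (by norm_num) (by norm_num)
  replace h := h.step 38923 (by norm_num) (by norm_num)
  replace h := h.step 38993 (by norm_num) (by norm_num)
  replace h := h.step 39047 (by norm_num) (by norm_num)
  replace h := h.step 39119 (by norm_num) (by norm_num)
  replace h := h.step 39191 (by norm_num) (by norm_num)
  replace h := h.step 39251 (by norm_num) (by norm_num)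
  replace h := h.step 39323 (by norm_num) (by norm_num)
  replace h := h.step 39383 (by norm_num) (by norm_num)
  replace h := h.step 39451 (by norm_num) (by norm_num)
  replace h := h.step 39521 (by norm_num) (by norm_num)
  replace h := h.step 39581 (by norm_num) (by norm_num)
  norm_num at h
  exact h

theorem covered_72_12 : Covered 72 42931 := by
  have h := covered_72_11
  replace h := h.step 39631 (by norm_num) (by norm_num)
  replace h := h.step 39703 (by norm_num) (by norm_num)
  replace h := h.step 39769 (by norm_num) (by norm_num)
  replace h := h.step 39841 (by norm_num) (by norm_num)
  replace h := h.step 39901 (by norm_num) (by norm_num)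
  replace h := h.step 39971 (by norm_num) (by norm_num)
  replace h := h.step 40039 (by norm_num) (by norm_num)
  replace h := h.step 40111 (by norm_num) (by norm_num)
  replace h := h.step 40177 (by norm_num) (by norm_num)
  replace h := h.step 40241 (by norm_num) (by norm_num)
  replace h := h.step 40289 (by norm_num) (by norm_num)
  replace h := h.step 40361 (by norm_num) (by norm_num)
  replace h := h.step 40433 (by norm_num) (by norm_num)
  replace h := h.step 40499 (by norm_num) (by norm_num)
  replace h := h.step 40559 (by norm_num) (by norm_num)
  replace h := h.step 40627 (by norm_num) (by norm_num)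
  replace h := h.step 40699 (by norm_num) (by norm_num)
  replace h := h.step 40771 (by norm_num) (by norm_num)
  replace h := h.step 40841 (by norm_num) (by norm_num)
  replace h := h.step 40903 (by norm_num) (by norm_num)
  replace h := h.step 40973 (by norm_num) (by norm_num)
  replace h := h.step 41039 (by norm_num) (by norm_num)
  replace h := h.step 41081 (by norm_num) (by norm_num)
  replace h := h.step 41149 (by norm_num) (by norm_num)
  replace h := h.step 41221 (by norm_num) (by norm_num)
  replace h := h.step 41281 (by norm_num) (by norm_num)
  replace h := h.step 41351 (by norm_num) (by norm_num)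
  replace h := h.step 41413 (by norm_num) (by norm_num)
  replace h := h.step 41479 (by norm_num) (by norm_num)
  replace h := h.step 41549 (by norm_num) (by norm_num)
  replace h := h.step 41621 (by norm_num) (by norm_num)
  replace h := h.step 41687 (by norm_num) (by norm_num)
  replace h := h.step 41759 (by norm_num) (by norm_num)
  replace h := h.step 41813 (by norm_num) (by norm_num)
  replace h := h.step 41879 (by norm_num) (by norm_num)
  replace h := h.step 41947 (by norm_num) (by norm_num)
  replace h := h.step 42019 (by norm_num) (by norm_num)
  replace h := h.step 42089 (by norm_num) (by norm_num)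
  replace h := h.step 42157 (by norm_num) (by norm_num)
  replace h := h.step 42227 (by norm_num) (by norm_num)
  replace h := h.step 42299 (by norm_num) (by norm_num)
  replace h := h.step 42359 (by norm_num) (by norm_num)
  replace h := h.step 42409 (by norm_num) (by norm_num)
  replace h := h.step 42473 (by norm_num) (by norm_num)
  replace h := h.step 42533 (by norm_num) (by norm_num)
  replace h := h.step 42589 (by norm_num) (by norm_num)
  replace h := h.step 42649 (by norm_num) (by norm_num)
  replace h := h.step 42719 (by norm_num) (by norm_num)
  replace h := h.step 42787 (by norm_num) (by norm_num)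
  replace h := h.step 42859 (by norm_num) (by norm_num)
  norm_num at h
  exact h

theorem covered_72_13 : Covered 72 44045 := by
  have h := covered_72_12
  replace h := h.step 42929 (by norm_num) (by norm_num)
  replace h := h.step 42989 (by norm_num) (by norm_num)
  replace h := h.step 43051 (by norm_num) (by norm_num)
  replace h := h.step 43117 (by norm_num) (by norm_num)
  replace h := h.step 43189 (by norm_num) (by norm_num)
  replace h := h.step 43261 (by norm_num) (by norm_num)
  replace h := h.step 43331 (by norm_num) (by norm_num)
  replace h := h.step 43403 (by norm_num) (by norm_num)
  replace h := h.step 43457 (by norm_num) (by norm_num)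
  replace h := h.step 43517 (by norm_num) (by norm_num)
  replace h := h.step 43579 (by norm_num) (by norm_num)
  replace h := h.step 43651 (by norm_num) (by norm_num)
  replace h := h.step 43721 (by norm_num) (by norm_num)
  replace h := h.step 43793 (by norm_num) (by norm_num)
  replace h := h.step 43853 (by norm_num) (by norm_num)
  replace h := h.step 43913 (by norm_num) (by norm_num)
  replace h := h.step 43973 (by norm_num) (by norm_num)
  norm_num at h
  exact h

theorem gaps_72 {m : ℕ} (h1 : 2 ≤ m) (h2 : m ≤ 44000) : ∃ p, p.Prime ∧ p ≤ m ∧ m < p + 72 :=
  covered_72_13 m h1 (lt_of_le_of_lt h2 (by norm_num))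

end CfsgLib.PrimeGaps
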